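import Mathlib

/-!
Arithmetic for the class numbers of solvable linear groups.
-/

set_option autoImplicit false

namespace H27.Classes

/-- The bound on the reciprocal commuting probability in dimension `n`. -/
def phi (n : ℕ) : ℚ := (43 / 5) ^ n * (3 / 25)

theorem phi_pos (n : ℕ) : 0 < phi n := by unfold phi; positivity

/-- The largest primitive solvable permutation groups of degree `p ^ k`. -/
def topB (p k : ℕ) : ℕ := p ^ k * ∏ i ∈ Finset.range k, (p ^ k - p ^ i)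

theorem top_bound {p k T : ℕ} (hp : p.Prime) (hk : 1 ≤ k) (hT : T ∣ topB p k) :
    T ^ 2 * 3 ^ (p ^ k - 1) ≤ 25 ^ (p ^ k - 1) := by
  have h2 := hp.two_le
  have hpos : 0 < topB p k := by
    refine Nat.mul_pos (pow_pos hp.pos _) (Finset.prod_pos fun i hi => ?_)
    exact Nat.sub_pos_of_lt (Nat.pow_lt_pow_right hp.one_lt (Finset.mem_range.1 hi))
  have hle := Nat.le_of_dvd hpos hT
  refine le_trans (Nat.mul_le_mul_right _ (Nat.pow_le_pow_left hle 2)) ?_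
  by_cases hsmall : p ^ k < 32
  · have hp32 : p < 32 := lt_of_le_of_lt (Nat.le_self_pow (by omega) p) hsmall
    have hk5 : k < 5 := by
      by_contra h
      have : 2 ^ 5 ≤ p ^ k := (Nat.pow_le_pow_left h2 5).trans (Nat.pow_le_pow_right hp.pos (by omega))
      omega
    have hw : ∀ p < 32, ∀ k < 5, 2 ≤ p → 1 ≤ k → p ^ k < 32 →
        topB p k ^ 2 * 3 ^ (p ^ k - 1) ≤ 25 ^ (p ^ k - 1) := by
      simp only [topB]; decide +kernel
    exact hw p hp32 k hk5 h2 hk hsmall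
  set m := p ^ k with hm
  have hj5 : 5 ≤ Nat.log 2 m := Nat.le_log_of_pow_le (by norm_num) (by norm_num; omega)
  set j := Nat.log 2 m with hj
  have hjl : 2 ^ j ≤ m := Nat.pow_log_le_self 2 (by omega)
  have hju : m < 2 ^ (j + 1) := Nat.lt_pow_succ_log_self (by norm_num) m
  have hkj : k ≤ j := Nat.le_log_of_pow_le (by norm_num) (Nat.pow_le_pow_left h2 k)
  have hB : topB p k ≤ m ^ (k + 1) := by
    rw [topB, ← hm, pow_succ']
    refine Nat.mul_le_mul_left _ ((Finset.prod_le_pow_card _ _ m fun i _ => Nat.sub_le _ _).trans ?_)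
    rw [Finset.card_range]
  have h4 : ∀ j, 5 ≤ j → 2 * ((j + 1) * (j + 1)) ≤ 3 * (2 ^ j - 1) := by
    intro j hj
    induction j, hj using Nat.le_induction with
    | base => norm_num
    | succ d hd ih =>
      rw [pow_succ]
      have : 1 ≤ 2 ^ d := Nat.one_le_two_pow
      nlinarith [Nat.sub_add_cancel this, Nat.sub_add_cancel (show 1 ≤ 2 ^ d * 2 by omega)]
  have h5 : topB p k ^ 2 ≤ 8 ^ (m - 1) := by
    calc topB p k ^ 2 ≤ (m ^ (k + 1)) ^ 2 := Nat.pow_le_pow_left hB 2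
      _ ≤ ((2 ^ (j + 1)) ^ (j + 1)) ^ 2 := Nat.pow_le_pow_left
          ((Nat.pow_le_pow_left hju.le _).trans (Nat.pow_le_pow_right (Nat.two_pow_pos _) (by omega))) 2
      _ = 2 ^ (2 * ((j + 1) * (j + 1))) := by rw [← pow_mul, ← pow_mul]; ring_nf
      _ ≤ 2 ^ (3 * (2 ^ j - 1)) := Nat.pow_le_pow_right (by norm_num) (h4 j hj5)
      _ = 8 ^ (2 ^ j - 1) := by rw [pow_mul]; norm_num
      _ ≤ 8 ^ (m - 1) := Nat.pow_le_pow_right (by norm_num) (by omega)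
  calc topB p k ^ 2 * 3 ^ (m - 1) ≤ 8 ^ (m - 1) * 3 ^ (m - 1) := Nat.mul_le_mul_right _ h5
    _ = 24 ^ (m - 1) := by rw [← mul_pow]; norm_num
    _ ≤ 25 ^ (m - 1) := Nat.pow_le_pow_left (by norm_num) _

/-- The imprimitive step. -/
theorem phi_step {j m T : ℕ} (hm : 1 ≤ m) (hT : T ^ 2 * 3 ^ (m - 1) ≤ 25 ^ (m - 1)) :
    phi j ^ m * (T : ℚ) ^ 2 ≤ phi (j * m) := by
  obtain ⟨m, rfl⟩ := Nat.exists_eq_add_of_le' hm
  rw [Nat.add_sub_cancel] at hT
  have h' : (T : ℚ) ^ 2 * 3 ^ m ≤ 25 ^ m := by exact_mod_cast hT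
  have h2 : (T : ℚ) ^ 2 * (3 / 25) ^ m ≤ 1 := by
    rw [div_pow, mul_div_assoc', div_le_one (by positivity)]; exact h'
  have e : phi j ^ (m + 1) * (T : ℚ) ^ 2 = phi (j * (m + 1)) * ((T : ℚ) ^ 2 * (3 / 25) ^ m) := by
    unfold phi
    rw [mul_pow, ← pow_mul, pow_succ (3 / 25 : ℚ) m]
    ring
  rw [e]
  exact mul_le_of_le_one_right (phi_pos _).le h2

/-- The bound for a central subgroup of index at most `q0`. -/
theorem quot_mono {q q0 : ℕ} (hq : 1 ≤ q) (hle : q ≤ q0) :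
    (q : ℚ) ^ 2 * (3 * q0 - 2) ≤ (q0 : ℚ) ^ 2 * (3 * q - 2) := by
  rcases eq_or_lt_of_le (hq.trans hle) with h | h
  · obtain rfl : q0 = 1 := h.symm
    obtain rfl : q = 1 := le_antisymm hle hq
    norm_num
  have h1 : (q : ℚ) ≤ q0 := Nat.cast_le.2 hle
  have h2 : (1 : ℚ) ≤ q := Nat.one_le_cast.2 hq
  have h3 : (2 : ℚ) ≤ q0 := by exact_mod_cast h
  have h4 : 0 ≤ 3 * (q : ℚ) * q0 - 2 * q - 2 * q0 := by nlinarith
  nlinarith [mul_nonneg (sub_nonneg.2 h1) h4]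

/-- The primitive case. -/
theorem prim_step {q q0 e a m n : ℕ} {P : ℚ} (hq : 1 ≤ q) (hle : q ≤ q0) (he : 1 ≤ e)
    (hm1 : 1 ≤ m) (hma : m ≤ a) (hn : a * e ≤ n)
    (hq0 : (q0 : ℚ) ^ 2 ≤ phi e * (3 * q0 - 2))
    (hP : (3 * q - 2 : ℚ) ≤ (q : ℚ) ^ 2 * (m : ℚ) ^ 2 * P) : 1 ≤ phi n * P := by
  have hq' : (0 : ℚ) < 3 * q - 2 := by
    have : (1 : ℚ) ≤ q := Nat.one_le_cast.2 hq
    linarith
  have hq0' : (0 : ℚ) < 3 * q0 - 2 := by
    have : (1 : ℚ) ≤ q0 := Nat.one_le_cast.2 (hq.trans hle)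
    linarith
  have h1 : (q : ℚ) ^ 2 ≤ phi e * (3 * q - 2) := by
    refine le_of_mul_le_mul_right ?_ hq0'
    calc (q : ℚ) ^ 2 * (3 * q0 - 2) ≤ (q0 : ℚ) ^ 2 * (3 * q - 2) := quot_mono hq hle
      _ ≤ phi e * (3 * q0 - 2) * (3 * q - 2) := mul_le_mul_of_nonneg_right hq0 hq'.le
      _ = _ := by ring
  have hP0 : 0 ≤ P := by
    by_contra h
    push Not at h
    have hpos : (0 : ℚ) < (q : ℚ) ^ 2 * (m : ℚ) ^ 2 := by positivity
    nlinarith [mul_neg_of_pos_of_neg hpos h]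
  have h2 : phi e * (m : ℚ) ^ 2 ≤ phi n := by
    obtain ⟨a', rfl⟩ := Nat.exists_eq_add_of_le' (hm1.trans hma)
    have hsq : m ^ 2 ≤ 4 ^ a' := by
      refine (Nat.pow_le_pow_left hma 2).trans ?_
      have := Nat.lt_pow_self (n := a') (a := 2) (by norm_num)
      calc (a' + 1) ^ 2 ≤ (2 ^ a') ^ 2 := Nat.pow_le_pow_left this 2
        _ = 4 ^ a' := by rw [← pow_mul, mul_comm, pow_mul]; norm_num
    have h3 : (m : ℚ) ^ 2 ≤ (43 / 5 : ℚ) ^ (e * a') := by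
      calc (m : ℚ) ^ 2 ≤ (4 : ℚ) ^ a' := by exact_mod_cast hsq
        _ ≤ (43 / 5 : ℚ) ^ a' := pow_le_pow_left₀ (by norm_num) (by norm_num) _
        _ ≤ _ := pow_le_pow_right₀ (by norm_num) (Nat.le_mul_of_pos_left _ he)
    have h4 : (43 / 5 : ℚ) ^ (e + e * a') ≤ (43 / 5 : ℚ) ^ n :=
      pow_le_pow_right₀ (by norm_num) (by rw [Nat.add_mul, one_mul, mul_comm a'] at hn; omega)
    unfold phi
    calc (43 / 5 : ℚ) ^ e * (3 / 25) * (m : ℚ) ^ 2
        ≤ (43 / 5 : ℚ) ^ e * (3 / 25) * (43 / 5 : ℚ) ^ (e * a') :=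
          mul_le_mul_of_nonneg_left h3 (by positivity)
      _ = (43 / 5 : ℚ) ^ (e + e * a') * (3 / 25) := by rw [pow_add]; ring
      _ ≤ _ := mul_le_mul_of_nonneg_right h4 (by norm_num)
  refine le_of_mul_le_mul_left ?_ hq'
  rw [mul_one]
  calc (3 * q - 2 : ℚ) ≤ (q : ℚ) ^ 2 * (m : ℚ) ^ 2 * P := hP
    _ ≤ phi e * (3 * q - 2) * (m : ℚ) ^ 2 * P :=
        mul_le_mul_of_nonneg_right (mul_le_mul_of_nonneg_right h1 (sq_nonneg _)) hP0
    _ = (3 * q - 2) * (phi e * (m : ℚ) ^ 2 * P) := by ring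
    _ ≤ _ := mul_le_mul_of_nonneg_left (mul_le_mul_of_nonneg_right h2 hP0) hq'.le

/-- Bounds on the index of the scalars in the kernel of the field action. -/
def qBound : ℕ → ℕ
  | 1 => 1
  | 2 => 24
  | 3 => 216
  | 4 => 1152
  | 5 => 12000
  | 6 => 10368
  | 7 => 98784
  | 8 => 10240000
  | e => e ^ 8

theorem qBound_phi {e : ℕ} (he : 1 ≤ e) :
    (qBound e : ℚ) ^ 2 ≤ phi e * (3 * qBound e - 2) := by
  by_cases h8 : e ≤ 8
  · interval_cases e <;> norm_num [qBound, phi]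
  have h9 : 9 ≤ e := by omega
  have hb : qBound e = e ^ 8 := by
    match e, h9 with
    | n + 9, _ => rfl
  rw [hb]
  have h1 : ∀ e, 9 ≤ e → 25 * 5 ^ e * e ^ 8 ≤ 6 * 43 ^ e := by
    intro e he
    induction e, he using Nat.le_induction with
    | base => norm_num
    | succ n hn ih =>
      have h2 : 9 ^ 8 * (n + 1) ^ 8 ≤ 10 ^ 8 * n ^ 8 := by
        rw [← mul_pow, ← mul_pow]; exact Nat.pow_le_pow_left (by omega) _
      have h3 : (n + 1) ^ 8 ≤ 3 * n ^ 8 := by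
        generalize (n + 1) ^ 8 = x at h2 ⊢
        generalize n ^ 8 = y at h2 ⊢
        norm_num at h2
        omega
      calc 25 * 5 ^ (n + 1) * (n + 1) ^ 8 ≤ 25 * 5 ^ (n + 1) * (3 * n ^ 8) := Nat.mul_le_mul_left _ h3
        _ = 15 * (25 * 5 ^ n * n ^ 8) := by ring
        _ ≤ 43 * (6 * 43 ^ n) := Nat.mul_le_mul (by norm_num) ih
        _ = _ := by ring
  have h4 : ((25 * 5 ^ e * e ^ 8 : ℕ) : ℚ) ≤ ((6 * 43 ^ e : ℕ) : ℚ) := Nat.cast_le.2 (h1 e h9)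
  push_cast at h4 ⊢
  have hq1 : (1 : ℚ) ≤ (e : ℚ) ^ 8 := one_le_pow₀ (Nat.one_le_cast.2 he)
  have h5 : (e : ℚ) ^ 8 ≤ 2 * phi e := by
    rw [phi, div_pow, div_mul_div_comm, mul_div_assoc', le_div_iff₀ (by positivity)]
    nlinarith
  have h6 : (2 : ℚ) ≤ (e : ℚ) ^ 8 :=
    le_trans (by exact_mod_cast (show 2 ≤ e by omega)) (le_self_pow₀ (by exact_mod_cast he) (by norm_num))
  nlinarith [mul_le_mul_of_nonneg_left h5 (le_trans (by norm_num) h6 : (0 : ℚ) ≤ (e : ℚ) ^ 8),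
    mul_nonneg (phi_pos e).le (sub_nonneg.2 h6)]

/-- The final inequality from a bound `h ≤ F k(H)`. -/
theorem final_bound {p n h c k : ℕ} {F : ℚ} (hF : 0 < F) (hh : 0 < h)
    (hP : (h : ℚ) ≤ F * c) (hk : p ^ n + h * c ≤ k * h + 1)
    (hpn : 1 ≤ p ^ n) (hcond : 2401 * F * (p : ℚ) ^ 2 ≤ 14400 * ((p : ℚ) ^ n - 1)) :
    49 * p ≤ 60 * k := by
  have hk' : (p : ℚ) ^ n + (h : ℚ) * c ≤ k * h + 1 := by exact_mod_cast hk
  have hh' : (0 : ℚ) < h := Nat.cast_pos.2 hh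
  have h1 : (h : ℚ) ^ 2 + F * ((p : ℚ) ^ n - 1) ≤ F * k * h := by
    nlinarith [mul_le_mul_of_nonneg_left hP hh'.le, mul_le_mul_of_nonneg_left hk' hF.le]
  have hA : 0 ≤ F * ((p : ℚ) ^ n - 1) := by
    have : (1 : ℚ) ≤ (p : ℚ) ^ n := by exact_mod_cast hpn
    nlinarith
  have h2 : 4 * F * ((p : ℚ) ^ n - 1) ≤ (F * k) ^ 2 := by
    nlinarith [mul_self_nonneg ((h : ℚ) * 2 - F * k)]
  have h3 : 4 * ((p : ℚ) ^ n - 1) ≤ F * (k : ℚ) ^ 2 := by
    refine le_of_mul_le_mul_left ?_ hF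
    nlinarith
  have h4 : 2401 * F * (p : ℚ) ^ 2 ≤ 3600 * F * (k : ℚ) ^ 2 := by nlinarith
  have h5 : ((49 * p : ℕ) : ℚ) ^ 2 ≤ ((60 * k : ℕ) : ℚ) ^ 2 := by
    push_cast
    refine le_of_mul_le_mul_left ?_ hF
    nlinarith
  have h6 : (49 * p) ^ 2 ≤ (60 * k) ^ 2 := by exact_mod_cast h5
  exact (Nat.pow_le_pow_iff_left two_ne_zero).1 h6

/-- The condition for dimension at least four. -/
theorem phi_cond {p n : ℕ} (hp : 11 ≤ p) (hn : 4 ≤ n) :
    2401 * phi n * (p : ℚ) ^ 2 ≤ 14400 * ((p : ℚ) ^ n - 1) := by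
  have hp' : (11 : ℚ) ≤ p := by exact_mod_cast hp
  induction n, hn using Nat.le_induction with
  | base =>
    norm_num [phi]
    nlinarith [mul_le_mul_of_nonneg_left (mul_self_le_mul_self (by norm_num) hp') (sq_nonneg (p : ℚ))]
  | succ n hn ih =>
    have e : phi (n + 1) = 43 / 5 * phi n := by unfold phi; ring
    rw [e, pow_succ (p : ℚ) n]
    have h1 : (1 : ℚ) ≤ (p : ℚ) ^ n := one_le_pow₀ (by linarith)
    nlinarith [phi_pos n, sq_nonneg (p : ℚ)]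

/-- The window for a primitive group of order `24 z` in dimension two. -/
theorem window {p h c k : ℕ} (hp : 11 ≤ p) (hodd : p % 2 = 1) (h3 : p % 3 ≠ 0) (hd : h ∣ 24 * (p - 1)) (hc : h ≤ 6 * c)
    (hk : p ^ 2 + h * c ≤ k * h + 1) : 49 * p ≤ 60 * k := by
  obtain ⟨i, hi⟩ := hd
  have hh : 0 < h := Nat.pos_of_ne_zero fun h0 => by rw [h0, zero_mul] at hi; omega
  have hi0 : 0 < i := Nat.pos_of_ne_zero fun h0 => by rw [h0, mul_zero] at hi; omega
  by_cases hp25 : p < 25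
  · have hw : (List.range 25).all (fun p => (List.range 600).all fun h => decide (p < 11) ||
        decide (p % 2 = 0) || decide (p % 3 = 0) || decide ((24 * (p - 1)) % h ≠ 0) ||
        decide (49 * p ≤ 60 * ((h + 5) / 6 + (p ^ 2 - 1 + (h - 1)) / h))) = true := by
      decide +kernel
    have hh600 : h < 24 * 25 := by
      have := Nat.le_mul_of_pos_right h hi0
      omega
    have hw' := List.all_eq_true.1 (List.all_eq_true.1 hw p (List.mem_range.2 hp25)) h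
      (List.mem_range.2 (by omega))
    simp only [Bool.or_eq_true, decide_eq_true_eq] at hw'
    have hdvd : 24 * (p - 1) % h = 0 := Nat.mod_eq_zero_of_dvd ⟨i, hi⟩
    have hfin : 49 * p ≤ 60 * ((h + 5) / 6 + (p ^ 2 - 1 + (h - 1)) / h) := by
      rcases hw' with (((h' | h') | h') | h') | h' <;> first | exact h' | omega
    refine hfin.trans (Nat.mul_le_mul_left _ ?_)
    have h1 : (h + 5) / 6 ≤ c := by omega
    have h2 : (p ^ 2 - 1 + (h - 1)) / h + c ≤ k := by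
      have hck : c ≤ k := by
        by_contra hlt
        have : (k + 1) * h ≤ c * h := Nat.mul_le_mul_right _ (by omega)
        have hp2 : 2 ≤ p ^ 2 := le_trans (by omega) (Nat.le_self_pow two_ne_zero p)
        rw [Nat.mul_comm h c] at hk
        rw [add_mul, one_mul] at this
        omega
      suffices (p ^ 2 - 1 + (h - 1)) / h < k - c + 1 by omega
      rw [Nat.div_lt_iff_lt_mul hh, add_mul, Nat.sub_mul, one_mul]
      have : c * h ≤ k * h := Nat.mul_le_mul_right _ hck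
      rw [Nat.mul_comm h c] at hk
      omega
    omega
  have hk' : (p : ℤ) ^ 2 + (h : ℤ) * c ≤ k * h + 1 := by exact_mod_cast hk
  have hi' : (h : ℤ) * i = 24 * ((p : ℤ) - 1) := by
    have : ((h * i : ℕ) : ℤ) = ((24 * (p - 1) : ℕ) : ℤ) := by rw [hi]
    push_cast [Nat.cast_sub (show 1 ≤ p by omega)] at this
    exact this
  have hc' : (h : ℤ) ≤ 6 * c := by exact_mod_cast hc
  have hh' : (0 : ℤ) < h := by exact_mod_cast hh
  have hp' : (11 : ℤ) ≤ p := by exact_mod_cast hp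
  have hkey : 10 * (h : ℤ) ^ 2 + 60 * ((p : ℤ) ^ 2 - 1) ≤ 60 * k * h := by nlinarith
  suffices h2 : (49 : ℤ) * p ≤ 60 * k by exact_mod_cast h2
  refine le_of_mul_le_mul_right ?_ hh'
  refine le_trans ?_ hkey
  rcases Nat.lt_trichotomy i 10 with h10 | rfl | h10
  · have h9 : (i : ℤ) ≤ 9 := by exact_mod_cast (show i ≤ 9 by omega)
    have : 24 * ((p : ℤ) - 1) ≤ 9 * h := by nlinarith
    have hp25' : (25 : ℤ) ≤ p := by omega
    nlinarith
  · push_cast at hi'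
    nlinarith
  · have h11 : (11 : ℤ) ≤ i := by exact_mod_cast h10
    have : 11 * (h : ℤ) ≤ 24 * ((p : ℤ) - 1) := by nlinarith
    nlinarith

end H27.Classes
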