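import Cfsg.Agent.H35.OddBase.Basic

/-!
Class numbers of solvable groups with a large abelian normal subgroup: shared definitions.
-/

set_option autoImplicit false

namespace H27.Classes

/-- The arithmetic consequence wanted from an irreducible solvable linear group `H` on a space of
order `p ^ n`: every `k` exceeding `k(H)` by the number of orbits satisfies `49 p ≤ 60 k`. -/
def IrrClassBound : Prop :=
  ∀ (H V : Type) [Group H] [Finite H] [AddCommGroup V] [Finite V] [DistribMulAction H V]
    [FaithfulSMul H V] (p n : ℕ), p.Prime → 11 ≤ p → 2 ≤ n → Group.IsSolvable H →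
    H35.OddBase.IsIrr H V → Nat.card V = p ^ n →
    ∀ k : ℕ, p ^ n + Nat.card H * Nat.card (ConjClasses H) ≤ k * Nat.card H + 1 → 49 * p ≤ 60 * k

end H27.Classes
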