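import Cfsg.Agent.H27.KGV.ClassLower

/-!
Class numbers from abelian normal subgroups, and lower bounds for commuting probabilities.
-/

set_option autoImplicit false
set_option linter.style.haveILetI false
set_option linter.unusedSectionVars false

namespace H27.Classes

universe u

variable {G : Type u} [Group G] [Finite G]

/-- The classes inside a normal subgroup add to those outside the centraliser. -/
theorem classes_ge (M C : Subgroup G) [M.Normal] [C.Normal] (hMC : M ≤ C)
    (h : ∀ c ∈ C, ∀ y ∈ M, c * y = y * c) :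
    Nat.card M + C.index * Nat.card (ConjClasses (G ⧸ C)) ≤
      Nat.card (ConjClasses G) * C.index + 1 := by
  classical
  let T := {c : ConjClasses G // ∃ y ∈ M, ConjClasses.mk y = c}
  let π : ConjClasses G → ConjClasses (G ⧸ C) := ConjClasses.map (QuotientGroup.mk' C)
  have hπs : Function.Surjective π := ConjClasses.map_surjective Quotient.mk''_surjective
  let one' : ConjClasses (G ⧸ C) := ConjClasses.mk 1
  -- classes meeting `M` lie over the trivial class
  have hT : ∀ c : T, π c.1 = one' := by
    rintro ⟨c, y, hy, rfl⟩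
    show ConjClasses.mk (QuotientGroup.mk' C y) = one'
    rw [QuotientGroup.mk'_apply, (QuotientGroup.eq_one_iff y).2 (hMC hy)]
  choose sec hsec using hπs
  have hsum : Nat.card {q : ConjClasses (G ⧸ C) // q ≠ one'} + Nat.card T ≤
      Nat.card (ConjClasses G) := by
    rw [← Nat.card_sum]
    refine Nat.card_le_card_of_injective
      (Sum.elim (fun q => sec q.1) (fun c => c.1)) ?_
    rintro (⟨q, hq⟩ | c) (⟨q', hq'⟩ | c') he <;> simp only [Sum.elim_inl, Sum.elim_inr] at he
    · have := congrArg π he
      rw [hsec, hsec] at this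
      simp only [this]
    · exact absurd (((hsec q).symm.trans (congrArg π he)).trans (hT c')) hq
    · exact absurd (((hsec q').symm.trans (congrArg π he.symm)).trans (hT c)) hq'
    · rw [Subtype.ext he]
  have hq : Nat.card (ConjClasses (G ⧸ C)) = Nat.card {q : ConjClasses (G ⧸ C) // q ≠ one'} + 1 := by
    haveI := Fintype.ofFinite (ConjClasses (G ⧸ C))
    simp only [Nat.card_eq_fintype_card]
    rw [Fintype.card_subtype_compl, Fintype.card_subtype_eq]
    exact (Nat.sub_add_cancel Fintype.card_pos).symm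
  have hM : Nat.card M + C.index ≤ Nat.card T * C.index + 1 := by
    haveI := Fintype.ofFinite T
    let t1 : T := ⟨ConjClasses.mk 1, 1, M.one_mem, rfl⟩
    let f : M → T := fun y => ⟨ConjClasses.mk (y : G), y, y.2, rfl⟩
    have hfib : ∀ c : T, Nat.card {y : M // f y = c} ≤ C.index := by
      rintro ⟨c, y, hy, rfl⟩
      refine le_trans ?_ (H27.KGV.carrier_card_le C (fun c hc => h c hc y hy))
      refine Nat.card_le_card_of_injective (fun z => ⟨(z.1 : G),
        ConjClasses.mem_carrier_iff_mk_eq.2 (congrArg Subtype.val z.2)⟩) ?_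
      intro z z' hz
      exact Subtype.ext (Subtype.ext (congrArg (fun w : (ConjClasses.mk y).carrier => w.1) hz))
    have h1 : Nat.card {y : M // f y = t1} = 1 := by
      rw [Nat.card_eq_one_iff_unique]
      refine ⟨⟨fun a b => ?_⟩, ⟨⟨1, rfl⟩⟩⟩
      have e : ∀ z : {y : M // f y = t1}, (z.1 : G) = 1 := fun z =>
        isConj_one_left.1 (ConjClasses.mk_eq_mk_iff_isConj.1 (congrArg Subtype.val z.2))
      exact Subtype.ext (Subtype.ext ((e a).trans (e b).symm))
    have hcard : Nat.card M = ∑ c : T, Nat.card {y : M // f y = c} := by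
      rw [← Nat.card_sigma]
      exact (Nat.card_congr (Equiv.sigmaFiberEquiv f)).symm
    rw [hcard, ← Finset.add_sum_erase _ _ (Finset.mem_univ t1), h1]
    have h2 : ∑ c ∈ Finset.univ.erase t1, Nat.card {y : M // f y = c} ≤
        (Nat.card T - 1) * C.index := by
      refine (Finset.sum_le_card_nsmul _ _ _ fun c _ => hfib c).trans (le_of_eq ?_)
      rw [smul_eq_mul, Finset.card_erase_of_mem (Finset.mem_univ _), Finset.card_univ,
        Nat.card_eq_fintype_card]
    have hTpos : 0 < Nat.card T := Nat.card_pos_iff.2 ⟨⟨t1⟩, inferInstance⟩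
    obtain ⟨j, hj⟩ : ∃ j, Nat.card T = j + 1 := ⟨_, (Nat.sub_add_cancel hTpos).symm⟩
    rw [hj, Nat.add_sub_cancel] at h2
    rw [hj, add_mul, one_mul]
    omega
  have h3 := Nat.mul_le_mul_right C.index hsum
  rw [hq]
  rw [add_mul] at h3
  rw [Nat.mul_add, Nat.mul_one, Nat.mul_comm C.index]
  omega

/-- A central subgroup of index `q`. -/
theorem central_bound (A : Subgroup G) (hA : A ≤ Subgroup.center G) :
    3 * (A.index : ℚ) - 2 ≤ (A.index : ℚ) ^ 2 * commProb G := by
  classical
  haveI := Fintype.ofFinite G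
  have hcent : ∀ a ∈ A, ∀ g : G, Commute a g := fun a ha g =>
    ((Subgroup.mem_center_iff.1 (hA ha)) g).symm
  -- three disjoint families of commuting pairs
  let S1 := {x : G × G // x.1 ∈ A}
  let S2 := {x : G × G // x.1 ∉ A ∧ x.2 ∈ A}
  let S3 := {x : G × G // x.1 ∉ A ∧ x.1⁻¹ * x.2 ∈ A}
  have hle : Nat.card S1 + Nat.card S2 + Nat.card S3 ≤ Nat.card {x : G × G // Commute x.1 x.2} := by
    rw [← Nat.card_sum, ← Nat.card_sum]
    refine Nat.card_le_card_of_injective (Sum.elim (Sum.elim
      (fun x => ⟨x.1, hcent _ x.2 _⟩)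
      (fun x => ⟨x.1, (hcent _ x.2.2 _).symm⟩))
      (fun x => ⟨x.1, by
        have h := ((Commute.refl x.1.1).mul_right ((hcent _ x.2.2 x.1.1).symm))
        rwa [mul_inv_cancel_left] at h⟩)) ?_
    rintro ((x | x) | x) ((y | y) | y) he <;>
      simp only [Sum.elim_inl, Sum.elim_inr, Subtype.mk.injEq] at he
    · simp only [Subtype.ext he]
    · exact absurd (he ▸ x.2) y.2.1
    · exact absurd (he ▸ x.2) y.2.1
    · exact absurd (he ▸ y.2) x.2.1
    · simp only [Subtype.ext he]
    · have h1 := y.2.2
      rw [← he] at h1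
      exact absurd ((A.mul_mem_cancel_right x.2.2).1 h1) (fun hh => x.2.1 (inv_mem_iff.1 hh))
    · exact absurd (he ▸ y.2) x.2.1
    · have h1 := x.2.2
      rw [he] at h1
      exact absurd ((A.mul_mem_cancel_right y.2.2).1 h1) (fun hh => y.2.1 (inv_mem_iff.1 hh))
    · simp only [Subtype.ext he]
  set a := Nat.card A with ha
  set q := A.index with hq
  have hG : Nat.card G = a * q := (A.card_mul_index).symm
  have hout : Nat.card {g : G // g ∉ A} + a = a * q := by
    rw [← hG, ha, Nat.card_eq_fintype_card, Nat.card_eq_fintype_card, Nat.card_eq_fintype_card,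
      Fintype.card_subtype_compl]
    exact Nat.sub_add_cancel (Fintype.card_subtype_le _)
  have h1 : Nat.card S1 = a * (a * q) := by
    rw [← hG, ha, ← Nat.card_prod]
    exact Nat.card_congr
      { toFun := fun x => (⟨x.1.1, x.2⟩, x.1.2)
        invFun := fun x => ⟨(x.1.1, x.2), x.1.2⟩
        left_inv := fun x => rfl
        right_inv := fun x => rfl }
  have h2 : Nat.card S2 = Nat.card {g : G // g ∉ A} * a := by
    rw [ha, ← Nat.card_prod]
    exact Nat.card_congr
      { toFun := fun x => (⟨x.1.1, x.2.1⟩, ⟨x.1.2, x.2.2⟩)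
        invFun := fun x => ⟨(x.1.1, x.2.1), x.1.2, x.2.2⟩
        left_inv := fun x => rfl
        right_inv := fun x => rfl }
  have h3 : Nat.card S3 = Nat.card {g : G // g ∉ A} * a := by
    rw [ha, ← Nat.card_prod]
    exact Nat.card_congr
      { toFun := fun x => (⟨x.1.1, x.2.1⟩, ⟨x.1.1⁻¹ * x.1.2, x.2.2⟩)
        invFun := fun x => ⟨(x.1.1, x.1.1 * x.2.1), x.1.2, by rw [inv_mul_cancel_left]; exact x.2.2⟩
        left_inv := fun x => Subtype.ext (Prod.ext rfl (mul_inv_cancel_left _ _))
        right_inv := fun x => Prod.ext rfl (Subtype.ext (inv_mul_cancel_left _ _)) }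
  rw [h1, h2, h3] at hle
  have hqpos : (0 : ℚ) < q := Nat.cast_pos.2 (Nat.pos_of_ne_zero Subgroup.index_ne_zero_of_finite)
  have hapos : (0 : ℚ) < a := Nat.cast_pos.2 Nat.card_pos
  have hle' : (a : ℚ) * (a * q) + Nat.card {g : G // g ∉ A} * a + Nat.card {g : G // g ∉ A} * a ≤
      Nat.card {x : G × G // Commute x.1 x.2} := by exact_mod_cast hle
  have hout' : (Nat.card {g : G // g ∉ A} : ℚ) = a * q - a := by
    have : (Nat.card {g : G // g ∉ A} : ℚ) + a = a * q := by exact_mod_cast hout
    linarith
  rw [commProb_def, hG, Nat.cast_mul, mul_div_assoc', le_div_iff₀ (by positivity)]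
  rw [hout'] at hle'
  nlinarith [mul_le_mul_of_nonneg_left hle' (sq_nonneg (q : ℚ))]

/-- A group embedded in a power of a group. -/
theorem pow_le_commProb {X Y : Type*} [Group X] [Group Y] [Finite Y] {ι : Type*} [Fintype ι]
    (f : X →* (ι → Y)) (hf : Function.Injective f) : commProb Y ^ Fintype.card ι ≤ commProb X := by
  rw [← commProb_function]
  exact H27.KGV.commProb_le_of_injective f hf

/-- Passing to a subgroup. -/
theorem commProb_le_index_sq (S : Subgroup G) {c : ℚ} (hc : c ≤ commProb S) :
    c / (S.index : ℚ) ^ 2 ≤ commProb G := by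
  rw [div_le_iff₀ (pow_pos (Nat.cast_pos.2 (Nat.pos_of_ne_zero Subgroup.index_ne_zero_of_finite)) 2)]
  exact hc.trans S.commProb_subgroup_le

end H27.Classes
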