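import Cfsg.Agent.H27.Classes.Arith
import Cfsg.Agent.H27.Classes.Prob
import Cfsg.Agent.H34.EndDecomp
import Cfsg.Agent.H35.OddBase.Primitive
import Cfsg.Agent.H17.SmallOrders

/-!
Commuting probabilities of imprimitive solvable linear groups.
-/

set_option autoImplicit false
set_option linter.style.haveILetI false
set_option linter.unusedSectionVars false

namespace H27.Classes

open MulAction
open H35.OddBase (IsIrr)

/-- A coarsest decomposition: the group permutes the `m` parts primitively with `T` permutations,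
and the kernel sits in the power of an irreducible group on one part. -/
theorem imprim_prob {G V : Type} [Group G] [Finite G] [AddCommGroup V] [Finite V]
    [DistribMulAction G V] [FaithfulSMul G V] (hs : Group.IsSolvable G) (hirr : IsIrr G V)
    (hprim : ¬ H34.IsPrim (DistribMulAction.toAddMonoidEnd G V)) {r n : ℕ} (hr : r.Prime)
    (hn : Nat.card V = r ^ n) {F : ℕ → ℚ}
    (ih : ∀ (K W : Type) [Group K] [Finite K] [AddCommGroup W] [Finite W] [DistribMulAction K W]
      [FaithfulSMul K W] (j : ℕ), j < n → Group.IsSolvable K → IsIrr K W →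
      Nat.card W = r ^ j → 1 ≤ F j * commProb K) :
    ∃ m j p k T : ℕ, m * j = n ∧ 2 ≤ m ∧ 1 ≤ j ∧ p.Prime ∧ p ^ k = m ∧ T ∣ topB p k ∧
      1 ≤ F j ^ m * (T : ℚ) ^ 2 * commProb G := by
  classical
  haveI := hirr.1
  haveI := hs
  set φ := DistribMulAction.toAddMonoidEnd G V
  -- a coarsest decomposition
  have hex : ∃ c, ∃ E : Finset (AddMonoid.End V), H34.IsDecomp φ E ∧ 1 < E.card ∧ E.card = c := by
    unfold H34.IsPrim at hprim
    push Not at hprim
    obtain ⟨E, hE, hE2⟩ := hprim
    exact ⟨_, E, hE, hE2, rfl⟩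
  obtain ⟨E, hE, hE2, hEc⟩ := Nat.find_spec hex
  have hcoarse : ∀ E' : Finset (AddMonoid.End V), H34.IsDecomp φ E' → 1 < E'.card →
      E.card ≤ E'.card := fun E' h1 h2 => hEc ▸ Nat.find_le ⟨E', h1, h2, rfl⟩
  let Ω := {e : AddMonoid.End V // e ∈ E}
  haveI : Finite Ω := Finite.of_fintype Ω
  letI : MulAction G Ω :=
    { smul := fun g e => ⟨φ g * e.1 * φ g⁻¹, hE.conj g e.1 e.2⟩
      one_smul := fun e => Subtype.ext (H34.conj_one_arg φ e.1)
      mul_smul := fun g h e => Subtype.ext (H34.conj_conj φ g h e.1).symm }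
  have hsm : ∀ (g : G) (e : Ω) (x : V), (g • e).1 (g • x) = g • e.1 x := fun g e x => by
    show g • e.1 (g⁻¹ • g • x) = g • e.1 x
    rw [inv_smul_smul]
  have hidem : ∀ (e : Ω) (x : V), e.1 (e.1 x) = e.1 x :=
    fun e x => DFunLike.congr_fun (hE.idem e.1 e.2) x
  have horth : ∀ (e f : Ω), e ≠ f → ∀ x : V, e.1 (f.1 x) = 0 := fun e f h x =>
    DFunLike.congr_fun (hE.orth e.1 e.2 f.1 f.2 fun h' => h (Subtype.ext h')) x
  have hsum : ∀ x : V, ∑ e : Ω, e.1 x = x := fun x => by
    have h := DFunLike.congr_fun hE.sum_eq x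
    rw [← Finset.sum_coe_sort] at h
    let ev : AddMonoid.End V →+ V := AddMonoidHom.mk' (fun f => f x) fun _ _ => rfl
    exact (map_sum ev (fun e : Ω => e.1) _).symm.trans h
  have hne : ∀ e : Ω, ∃ x, e.1 x ≠ 0 := fun e => by
    by_contra hh
    push Not at hh
    exact hE.ne_zero e.1 e.2 (AddMonoidHom.ext hh)
  obtain ⟨e₀, he₀⟩ : ∃ e, e ∈ E := Finset.card_pos.1 (by omega)
  let x₀ : Ω := ⟨e₀, he₀⟩
  haveI : Nontrivial Ω := Fintype.one_lt_card_iff_nontrivial.1 (by rw [Fintype.card_coe]; exact hE2)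
  -- transitivity
  haveI htrans : IsPretransitive G Ω := by
    refine ⟨fun a c => ?_⟩
    by_contra hac
    let U : AddSubgroup V :=
      { carrier := {v | ∀ e : Ω, (¬ ∃ g : G, g • a = e) → e.1 v = 0}
        zero_mem' := fun e _ => map_zero e.1
        add_mem' := fun {u v} hu hv e he => by rw [map_add, hu e he, hv e he, add_zero]
        neg_mem' := fun {u} hu e he => by rw [map_neg, hu e he, neg_zero] }
    have hU : ∀ g : G, ∀ v ∈ U, g • v ∈ U := by
      intro g v hv e he
      have h1 := hsm g (g⁻¹ • e) v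
      rw [smul_inv_smul] at h1
      rw [h1, hv (g⁻¹ • e) fun ⟨u, hu⟩ => he ⟨g * u, by rw [mul_smul, hu, smul_inv_smul]⟩, smul_zero]
    rcases hirr.2 U hU with h0 | h0
    · obtain ⟨x, hx⟩ := hne a
      refine hx (AddSubgroup.mem_bot.1 (h0 ▸ (show a.1 x ∈ U from fun e he => ?_)))
      exact horth e a (fun e' => he ⟨1, by rw [one_smul, e']⟩) x
    · obtain ⟨x, hx⟩ := hne c
      exact hx ((show c.1 x ∈ U from h0 ▸ AddSubgroup.mem_top _) c hac |> fun hh => by
        rwa [hidem] at hh)
  set H := stabilizer G x₀ with hH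
  have hHidx : H.index = Nat.card Ω := index_stabilizer_of_transitive G x₀
  -- maximality of the stabiliser
  have hmax : ∀ M : Subgroup G, stabilizer G x₀ < M → M = ⊤ := by
    intro M hM
    by_contra hMtop
    haveI : Fintype (G ⧸ M) := Fintype.ofFinite _
    choose rep hrep using fun e => exists_smul_eq G x₀ e
    let π : Ω → G ⧸ M := fun e => (rep e : G ⧸ M)
    have hπ : ∀ (g : G) (e : Ω), π (g • e) = g • π e := by
      intro g e
      show (rep (g • e) : G ⧸ M) = g • (rep e : G ⧸ M)
      rw [MulAction.Quotient.smul_mk, QuotientGroup.eq]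
      refine hM.le ?_
      rw [mem_stabilizer_iff, mul_smul, inv_smul_eq_iff, hrep, smul_eq_mul, mul_smul, hrep]
    have hπs : Function.Surjective π := fun y => by
      obtain ⟨g, rfl⟩ := QuotientGroup.mk_surjective y
      refine ⟨g • x₀, QuotientGroup.eq.2 (hM.le ?_)⟩
      rw [mem_stabilizer_iff, mul_smul, inv_smul_eq_iff, hrep]
    let F : G ⧸ M → AddMonoid.End V := fun y =>
      ∑ e ∈ Finset.univ.filter (fun e : Ω => π e = y), e.1
    have hFe : ∀ (y : G ⧸ M) (e : Ω), e.1 * F y = if π e = y then e.1 else 0 := by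
      intro y e
      simp only [F, Finset.mul_sum]
      rw [Finset.sum_congr rfl (fun f _ => show e.1 * f.1 = if e = f then e.1 else 0 by
        split_ifs with hef
        · subst hef; exact hE.idem e.1 e.2
        · exact hE.orth e.1 e.2 f.1 f.2 fun h' => hef (Subtype.ext h'))]
      rw [Finset.sum_ite_eq]
      simp
    have hFF : ∀ y y' : G ⧸ M, F y * F y' = if y = y' then F y else 0 := by
      intro y y'
      show (∑ e ∈ Finset.univ.filter (fun e : Ω => π e = y), e.1) * F y' = _
      rw [Finset.sum_mul]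
      rw [Finset.sum_congr rfl (fun e he => show e.1 * F y' = if y = y' then e.1 else 0 by
        rw [hFe, (Finset.mem_filter.1 he).2])]
      split_ifs
      · rfl
      · exact Finset.sum_const_zero
    have hFne : ∀ y, F y ≠ 0 := fun y h0 => by
      obtain ⟨e, rfl⟩ := hπs y
      have h1 := hFe (π e) e
      rw [h0, mul_zero, if_pos rfl] at h1
      exact hE.ne_zero e.1 e.2 h1.symm
    have hFinj : Function.Injective F := fun y y' hyy => by
      by_contra hne'
      have h1 := hFF y y'
      rw [if_neg hne', ← hyy, hFF, if_pos rfl] at h1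
      exact hFne y h1
    have hdec : H34.IsDecomp φ (Finset.univ.image F) := by
      refine ⟨?_, ?_, ?_, ?_, ?_⟩
      · intro f hf
        obtain ⟨y, -, rfl⟩ := Finset.mem_image.1 hf
        rw [hFF, if_pos rfl]
      · intro f hf
        obtain ⟨y, -, rfl⟩ := Finset.mem_image.1 hf
        exact hFne y
      · intro f hf f' hf' hne'
        obtain ⟨y, -, rfl⟩ := Finset.mem_image.1 hf
        obtain ⟨y', -, rfl⟩ := Finset.mem_image.1 hf'
        rw [hFF, if_neg fun e => hne' (congrArg F e)]
      · rw [Finset.sum_image fun y _ y' _ e => hFinj e]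
        rw [Finset.sum_fiberwise Finset.univ π fun e : Ω => e.1, ← hE.sum_eq]
        exact Finset.sum_coe_sort E fun e => e
      · intro g f hf
        obtain ⟨y, -, rfl⟩ := Finset.mem_image.1 hf
        refine Finset.mem_image.2 ⟨g • y, Finset.mem_univ _, ?_⟩
        simp only [F, Finset.mul_sum, Finset.sum_mul]
        refine (Finset.sum_equiv (MulAction.toPerm g) (fun e => ?_) fun e _ => rfl).symm
        simp [hπ]
    have h1 : 1 < (Finset.univ.image F).card := by
      rw [Finset.card_image_of_injective _ hFinj, Finset.card_univ, ← Nat.card_eq_fintype_card]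
      exact Subgroup.one_lt_index_of_ne_top hMtop
    have h2 := hcoarse _ hdec h1
    rw [Finset.card_image_of_injective _ hFinj, Finset.card_univ, ← Nat.card_eq_fintype_card] at h2
    haveI : H.FiniteIndex := ⟨by rw [hHidx]; exact Nat.card_pos.ne'⟩
    have h3 : M.index < H.index := Subgroup.index_strictAnti hM
    rw [hHidx, Nat.card_eq_fintype_card, Fintype.card_coe] at h3
    change E.card ≤ M.index at h2
    omega
  obtain ⟨p, k, hp, hpk, hperm⟩ := H17.SmallOrders.card_top hs x₀ hmax
  -- the parts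
  let W : AddSubgroup V := (x₀.1 : V →+ V).eqLocus (AddMonoidHom.id V)
  have hWmem : ∀ x, x ∈ W ↔ x₀.1 x = x := fun _ => Iff.rfl
  have hWinv : ∀ (g : ↥H) (x : V), x ∈ W → (g : G) • x ∈ W := fun g x hx => by
    rw [hWmem] at hx ⊢
    have h := hsm g x₀ x
    rw [show (g : G) • x₀ = x₀ from g.2, hx] at h
    exact h
  letI : DistribMulAction ↥H ↥W :=
    { smul := fun g x => ⟨(g : G) • x.1, hWinv g x.1 x.2⟩
      one_smul := fun x => Subtype.ext (one_smul G x.1)
      mul_smul := fun g h x => Subtype.ext (mul_smul (g : G) (h : G) x.1)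
      smul_zero := fun g => Subtype.ext (smul_zero (g : G))
      smul_add := fun g x y => Subtype.ext (smul_add (g : G) x.1 y.1) }
  haveI : Nontrivial ↥W := by
    obtain ⟨x, hx⟩ := hne x₀
    exact ⟨⟨⟨x₀.1 x, hidem x₀ x⟩, 0, fun h => hx (congrArg Subtype.val h)⟩⟩
  have hWirr : IsIrr ↥H ↥W := by
    refine ⟨inferInstance, fun U hU => ?_⟩
    by_cases hU0 : U = ⊥
    · exact Or.inl hU0
    right
    let U' : AddSubgroup V := AddSubgroup.closure {x | ∃ g : G, ∃ u ∈ U, g • (u : V) = x}
    have hU' : ∀ g : G, ∀ x ∈ U', g • x ∈ U' := by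
      intro g x hx
      induction hx using AddSubgroup.closure_induction with
      | mem x hx =>
        obtain ⟨h, u, hu, rfl⟩ := hx
        exact AddSubgroup.subset_closure ⟨g * h, u, hu, mul_smul _ _ _⟩
      | zero => rw [smul_zero]; exact zero_mem _
      | add x y _ _ hx hy => rw [smul_add]; exact add_mem hx hy
      | neg x _ hx => rw [smul_neg]; exact neg_mem hx
    have hU'top : U' = ⊤ := (hirr.2 U' hU').resolve_left fun h => hU0 ((AddSubgroup.eq_bot_iff_forall _).2
      fun u hu => Subtype.ext (by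
        have : (u : V) ∈ U' := AddSubgroup.subset_closure ⟨1, u, hu, one_smul _ _⟩
        rw [h, AddSubgroup.mem_bot] at this
        exact this))
    refine (AddSubgroup.eq_top_iff' _).2 fun w => ?_
    have key : ∀ x ∈ U', (⟨x₀.1 x, hidem x₀ x⟩ : ↥W) ∈ U := by
      intro x hx
      induction hx using AddSubgroup.closure_induction with
      | mem x hx =>
        obtain ⟨g, u, hu, rfl⟩ := hx
        by_cases hg : g • x₀ = x₀
        · have h := hU ⟨g, hg⟩ u hu
          have heq : (⟨x₀.1 (g • (u : V)), hidem x₀ _⟩ : ↥W) = (⟨g, hg⟩ : ↥H) • u :=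
            Subtype.ext (by
              show x₀.1 (g • (u : V)) = g • (u : V)
              exact hWinv ⟨g, hg⟩ u u.2)
          rw [heq]; exact h
        · have h := hsm g x₀ u
          rw [(hWmem u).1 u.2] at h
          have heq : (⟨x₀.1 (g • (u : V)), hidem x₀ _⟩ : ↥W) = 0 := Subtype.ext (by
            show x₀.1 (g • (u : V)) = 0
            rw [← h]; exact horth x₀ (g • x₀) (Ne.symm hg) _)
          rw [heq]; exact zero_mem _
      | zero =>
        have heq : (⟨x₀.1 0, hidem x₀ _⟩ : ↥W) = 0 := Subtype.ext (map_zero x₀.1)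
        rw [heq]; exact zero_mem _
      | add x y _ _ hx hy =>
        have heq : (⟨x₀.1 (x + y), hidem x₀ _⟩ : ↥W) = ⟨x₀.1 x, hidem x₀ x⟩ + ⟨x₀.1 y, hidem x₀ y⟩ :=
          Subtype.ext (map_add x₀.1 x y)
        rw [heq]; exact add_mem hx hy
      | neg x _ hx =>
        have heq : (⟨x₀.1 (-x), hidem x₀ _⟩ : ↥W) = -⟨x₀.1 x, hidem x₀ x⟩ :=
          Subtype.ext (map_neg x₀.1 x)
        rw [heq]; exact neg_mem hx
    have h := key w (hU'top ▸ AddSubgroup.mem_top _)
    have heq : (⟨x₀.1 (w : V), hidem x₀ _⟩ : ↥W) = w := Subtype.ext w.2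
    rwa [heq] at h
  -- sizes
  choose t ht using fun e => exists_smul_eq G x₀ e
  have hmemW : ∀ (e : Ω) (x : V), (t e)⁻¹ • e.1 x ∈ W := fun e x => by
    rw [hWmem]
    have h := hsm (t e)⁻¹ e (e.1 x)
    rwa [show (t e)⁻¹ • e = x₀ from inv_smul_eq_iff.2 (ht e).symm, hidem] at h
  have htfix : ∀ (e : Ω) (w : ↥W), e.1 (t e • (w : V)) = t e • (w : V) := fun e w => by
    have h := hsm (t e) x₀ (w : V)
    rw [ht, (hWmem _).1 w.2] at h
    exact h
  have hcardV : Nat.card V = Nat.card ↥W ^ Nat.card Ω := by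
    rw [← Nat.card_fun]
    refine Nat.card_congr
      { toFun := fun x e => ⟨(t e)⁻¹ • e.1 x, hmemW e x⟩
        invFun := fun w => ∑ e, t e • (w e : V)
        left_inv := fun x => ?_
        right_inv := fun w => funext fun e => Subtype.ext ?_ }
    · simp only [smul_inv_smul]
      exact hsum x
    · show (t e)⁻¹ • e.1 (∑ f, t f • (w f : V)) = w e
      rw [map_sum, Finset.sum_eq_single e (fun f _ hf => by
          rw [← htfix f (w f)]; exact horth e f (Ne.symm hf) _)
        (fun h => absurd (Finset.mem_univ e) h), htfix, inv_smul_smul]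
  obtain ⟨j, -, hj⟩ : ∃ j ≤ n, Nat.card ↥W = r ^ j :=
    (Nat.dvd_prime_pow hr).1 (hn ▸ W.card_addSubgroup_dvd_card)
  have hm : Nat.card Ω * j = n := by
    rw [hn, hj, ← pow_mul] at hcardV
    rw [Nat.mul_comm]
    exact (Nat.pow_right_injective hr.two_le hcardV).symm
  have hj1 : 1 ≤ j := by
    by_contra h0
    have := Finite.one_lt_card_iff_nontrivial.2 (inferInstance : Nontrivial ↥W)
    rw [hj, show j = 0 by omega, pow_zero] at this
    exact lt_irrefl _ this
  have hm2 : 2 ≤ Nat.card Ω := Finite.one_lt_card_iff_nontrivial.2 inferInstance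
  have hjn : j < n := by
    rw [← hm]
    exact lt_of_lt_of_le (by omega) (Nat.mul_le_mul_right j hm2)
  -- the group on one part
  let φW : ↥H →* Equiv.Perm ↥W := toPermHom ↥H ↥W
  let Hb : Subgroup (Equiv.Perm ↥W) := φW.range
  letI : DistribMulAction ↥Hb ↥W :=
    { smul := fun u w => (u : Equiv.Perm ↥W) w
      one_smul := fun w => rfl
      mul_smul := fun u v w => rfl
      smul_zero := fun u => by
        obtain ⟨_, g, rfl⟩ := u
        exact smul_zero g
      smul_add := fun u a b => by
        obtain ⟨_, g, rfl⟩ := u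
        exact smul_add g a b }
  haveI : FaithfulSMul ↥Hb ↥W := ⟨fun h => Subtype.ext (Equiv.ext h)⟩
  haveI : Finite ↥Hb := Finite.of_injective _ Subtype.val_injective
  have hHb : Group.IsSolvable ↥Hb := Group.isSolvable_of_surjective φW.rangeRestrict_surjective
  have hWi : IsIrr ↥Hb ↥W := ⟨inferInstance, fun U hU => hWirr.2 U fun g w hw =>
    hU (φW.rangeRestrict g) w hw⟩
  have hPb := ih ↥Hb ↥W j hjn hHb hWi hj
  -- the kernel of the action on the parts
  let X : Subgroup G := (toPermHom G Ω).ker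
  have hX : ∀ x ∈ X, ∀ e : Ω, x • e = e := fun x hx e =>
    DFunLike.congr_fun (MonoidHom.mem_ker.1 hx) e
  let ρ : Ω → ↥X →* ↥H := fun e =>
    { toFun := fun x => ⟨(t e)⁻¹ * (x : G) * t e, by
        show ((t e)⁻¹ * (x : G) * t e) • x₀ = x₀
        rw [mul_smul, mul_smul, ht e, hX _ x.2, inv_smul_eq_iff, ht e]⟩
      map_one' := Subtype.ext (by simp)
      map_mul' := fun x y => Subtype.ext (by simp [mul_assoc]) }
  let f : ↥X →* (Ω → ↥Hb) := MonoidHom.mk'
    (fun x e => φW.rangeRestrict (ρ e x))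
    (fun x y => funext fun e => by simp only [Pi.mul_apply, map_mul])
  have hf : Function.Injective f := by
    rw [injective_iff_map_eq_one]
    intro x hx
    refine Subtype.ext (eq_of_smul_eq_smul fun v : V => ?_)
    rw [OneMemClass.coe_one, one_smul]
    conv_lhs => rw [← hsum v]
    rw [Finset.smul_sum]
    conv_rhs => rw [← hsum v]
    refine Finset.sum_congr rfl fun e _ => ?_
    have h1 := congrArg Subtype.val (DFunLike.congr_fun
      (congrArg Subtype.val (congrFun hx e)) ⟨(t e)⁻¹ • e.1 v, hmemW e v⟩)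
    change ((t e)⁻¹ * (x : G) * t e) • (t e)⁻¹ • e.1 v = (t e)⁻¹ • e.1 v at h1
    rw [← mul_smul, mul_inv_cancel_right, mul_smul] at h1
    exact MulAction.injective _ h1
  have h1 := pow_le_commProb f hf
  have h2 := X.commProb_subgroup_le
  rw [show X.index = Nat.card (toPermHom G Ω).range from Subgroup.index_ker _] at h2
  refine ⟨Nat.card Ω, j, p, k, Nat.card (toPermHom G Ω).range, hm, hm2, hj1, hp, hpk,
    by rw [topB, ← Fin.prod_univ_eq_prod_range]; exact hperm, ?_⟩
  have hF : 0 ≤ F j := by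
    by_contra hneg
    push Not at hneg
    nlinarith [mul_neg_of_neg_of_pos hneg (commProb_pos ↥Hb)]
  have hpw := one_le_pow₀ hPb (n := Nat.card Ω)
  rw [mul_pow] at hpw
  rw [mul_assoc, mul_comm _ (commProb G)]
  refine hpw.trans (mul_le_mul_of_nonneg_left ?_ (pow_nonneg hF _))
  refine le_trans (le_of_eq ?_) (h1.trans h2)
  rw [Nat.card_eq_fintype_card]

end H27.Classes
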