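import Cfsg.Agent.H27.Classes.Primitive
import Cfsg.Agent.H27.Classes.Imprimitive
import Cfsg.Agent.H27.Classes.Defs
import Cfsg.Agent.H27.Orbit.SectExists
import Cfsg.Agent.H89.Orbit.Step
import Cfsg.Agent.H50.Orbit.QuatBound

/-!
Class numbers of irreducible solvable linear groups against the order of the module.
-/

set_option autoImplicit false
set_option linter.style.haveILetI false
set_option linter.unusedSectionVars false

namespace H27.Classes

open MulAction
open H27.Orbit (SectData)
open H35.OddBase (IsIrr)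

theorem le_m_of_card {H V : Type} [Group H] [Finite H] [AddCommGroup V] [Finite V]
    [DistribMulAction H V] (S : SectData H V) {r f : ℕ} (hr : r.Prime) (hf1 : 1 ≤ f)
    (hf : Nat.card S.K = r ^ f) : S.m ≤ f := by
  obtain ⟨k, hk⟩ := S.exists_root_m
  rw [hf] at hk
  have hkd : k ∣ r ^ f := hk ▸ dvd_pow_self k S.m_pos.ne'
  obtain ⟨i, -, rfl⟩ := (Nat.dvd_prime_pow hr).1 hkd
  rw [← pow_mul] at hk
  have := Nat.pow_right_injective hr.two_le hk
  exact Nat.le_of_dvd hf1 ⟨i, by rw [this, mul_comm]⟩

/-- The commuting probability of an irreducible solvable linear group. -/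
theorem prob_bound {r : ℕ} (hr : r.Prime) : ∀ (n : ℕ) (H V : Type) [Group H] [Finite H]
    [AddCommGroup V] [Finite V] [DistribMulAction H V] [FaithfulSMul H V],
    Group.IsSolvable H → IsIrr H V → Nat.card V = r ^ n → 1 ≤ phi n * commProb H := by
  intro n
  induction n using Nat.strong_induction_on with
  | _ n ih =>
    intro H V _ _ _ _ _ _ hs hirr hn
    haveI := hs
    haveI := hirr.1
    by_cases hp : H34.IsPrim (DistribMulAction.toAddMonoidEnd H V)
    · obtain ⟨S⟩ := H27.Orbit.hasSect H V hs hirr hp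
      obtain ⟨f, d, hfd, hf1, hf, hd⟩ := H89.Orbit.exists_degrees S hr hn
      exact Sect.prob_phi S (le_m_of_card S hr hf1 hf)
        (le_trans (Nat.mul_le_mul_left f (hd ▸ S.e_le)) hfd.le)
    · obtain ⟨m, j, p, k, T, hmj, hm, -, hp', hpk, hT, hP⟩ := imprim_prob hs hirr hp hr hn
        (F := phi) fun K W _ _ _ _ _ _ j hj hKs hKi hW => ih j hj K W hKs hKi hW
      have hk1 : 1 ≤ k := by
        by_contra h0
        rw [show k = 0 by omega, pow_zero] at hpk
        omega
      refine hP.trans (mul_le_mul_of_nonneg_right ?_ (commProb_pos H).le)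
      rw [← hmj, mul_comm m j]
      exact phi_step (by omega) (hpk ▸ top_bound hp' hk1 hT)

/-- From a bound on the commuting probability to one on the class number. -/
theorem finish {H : Type} [Group H] [Finite H] {p n k : ℕ} {F : ℚ} (hF : 0 < F) (hp : 1 ≤ p)
    (hP : 1 ≤ F * commProb H)
    (hk : p ^ n + Nat.card H * Nat.card (ConjClasses H) ≤ k * Nat.card H + 1)
    (hcond : 2401 * F * (p : ℚ) ^ 2 ≤ 14400 * ((p : ℚ) ^ n - 1)) : 49 * p ≤ 60 * k := by
  refine final_bound hF Nat.card_pos ?_ hk (Nat.one_le_pow _ _ hp) hcond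
  have h1 := mul_le_mul_of_nonneg_left hP (Nat.cast_nonneg (α := ℚ) (Nat.card H))
  rw [mul_one] at h1
  refine h1.trans (le_of_eq ?_)
  rw [commProb_def']
  have : (Nat.card H : ℚ) ≠ 0 := Nat.cast_ne_zero.2 Nat.card_pos.ne'
  field_simp

/-- The section of type `2.S₄`. -/
theorem quat_case {H V : Type} [Group H] [Finite H] [AddCommGroup V] [Finite V]
    [DistribMulAction H V] [FaithfulSMul H V] [Group.IsSolvable H] (S : SectData H V)
    (he : S.e = 2) (hm : S.m = 1) (hq : Sect.q S = 24) :
    Nat.card H ∣ 24 * (Nat.card S.K - 1) ∧ 1 ≤ 6 * commProb H := by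
  have hB6 : S.B.relIndex S.σ.ker = 6 := by
    have h := Sect.q_eq S
    rw [hq, he] at h
    omega
  let φ := toPermHom H S.N
  let L := φ.ker ⊓ S.σ.ker
  have hLd : L.relIndex S.σ.ker ∣ 6 := by
    have h := H89.Orbit.card_dvd_GL_e (G := ↥S.actRange) S.cr_actRange S.card_N Nat.prime_two
      (a := 1) (by rw [he]; rfl)
    simp [Fin.prod_univ_succ] at h
    refine dvd_trans ?_ h
    show (φ.ker ⊓ S.σ.ker).relIndex S.σ.ker ∣ _
    rw [Subgroup.inf_relIndex_right, Subgroup.relIndex_ker]
    exact Subgroup.card_dvd_of_le (Subgroup.map_le_range φ S.σ.ker)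
  have hLB : L = S.B := by
    refine le_antisymm (Sect.inf_le S) (Subgroup.relIndex_eq_one.1 ?_)
    have h := Subgroup.relIndex_mul_relIndex L S.B S.σ.ker (Sect.inf_le S) S.B_le
    rw [hB6] at h
    have h6 := Nat.le_of_dvd (by norm_num) hLd
    have h0 : L.relIndex S.B ≠ 0 := Subgroup.index_ne_zero_of_finite
    omega
  haveI : (S.B.subgroupOf S.σ.ker).Normal := by
    haveI : L.Normal := Subgroup.normal_inf_normal φ.ker S.σ.ker
    rw [← hLB]
    exact Subgroup.normal_subgroupOf
  haveI : (S.A.subgroupOf S.σ.ker).Normal := ⟨fun a ha x => by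
    rw [Subgroup.mem_center_iff.1 (Sect.subgroupOf_le_center S ha) x, mul_inv_cancel_right]
    exact ha⟩
  have hidx : (S.A.subgroupOf S.σ.ker).index = 24 := hq
  have hXH : S.σ.ker.index = 1 := (Subgroup.index_ker S.σ).trans hm
  refine ⟨?_, ?_⟩
  · have h1 := S.σ.ker.card_mul_index
    rw [hXH, mul_one] at h1
    rw [← h1, ← (S.A.subgroupOf S.σ.ker).card_mul_index, hidx,
      Nat.card_congr (Subgroup.subgroupOfEquivOfLe (S.A_le.trans S.B_le)).toEquiv, mul_comm]
    exact Nat.mul_dvd_mul_left _ S.dvd_A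
  · have h2 := S.σ.ker.commProb_subgroup_le
    rw [hXH, Nat.cast_one, one_pow, mul_one] at h2
    have h3 : (1 : ℚ) / 6 ≤ commProb ↥S.σ.ker := by
      refine H50.QuatBound.commProb_ge_sixth (S.A.subgroupOf S.σ.ker) (S.B.subgroupOf S.σ.ker)
        (Sect.subgroupOf_le_center S) (fun x hx => S.A_le hx) hidx ?_ ?_ ?_
      · rw [Subgroup.relIndex_subgroupOf S.B_le, S.relIndex, he]
        norm_num
      · intro b hb hc
        exact S.center_le _ hb fun y hy =>
          congrArg Subtype.val (hc ⟨y, S.B_le hy⟩ hy)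
      · intro g hg
        exact S.centralizer_le _ g.2 fun y hy => hg ⟨y, S.B_le hy⟩ hy
    linarith

theorem irrClassBound : IrrClassBound := by
  intro H V _ _ _ _ _ _ p n hp h11 hn2 hs hirr hV k hk
  haveI := hs
  haveI := hirr.1
  have hp' : (11 : ℚ) ≤ p := by exact_mod_cast h11
  by_cases hn4 : 4 ≤ n
  · exact finish (phi_pos n) hp.one_le (prob_bound hp n H V hs hirr hV) hk (phi_cond h11 hn4)
  have hsq : 121 ≤ (p : ℚ) ^ 2 := by nlinarith
  have hcu : 11 * (p : ℚ) ^ 2 ≤ (p : ℚ) ^ 3 := by nlinarith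
  by_cases hprim : H34.IsPrim (DistribMulAction.toAddMonoidEnd H V)
  swap
  · obtain ⟨m, j, q, i, T, hmj, hm, hj, hq, hqi, hT, hP⟩ := imprim_prob hs hirr hprim hp hV
      (F := phi) fun K W _ _ _ _ _ _ j hj hKs hKi hW => prob_bound hp j K W hKs hKi hW
    have hj1 : j = 1 := by nlinarith
    rw [hj1, mul_one] at hmj
    subst hj1
    have hi : 1 ≤ i := by
      by_contra h0
      rw [show i = 0 by omega, pow_zero] at hqi
      omega
    obtain rfl | rfl : n = 2 ∨ n = 3 := by omega
    all_goals subst hmj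
    all_goals have hpr : (q ^ i).Prime := by rw [hqi]; norm_num
    all_goals have hi1 : i = 1 := Nat.Prime.eq_one_of_pow hpr
    all_goals rw [hi1, pow_one] at hqi
    all_goals subst hqi hi1
    all_goals simp [topB] at hT
    · have hT2 : T ≤ 2 := Nat.le_of_dvd (by norm_num) hT
      have hT2' : (T : ℚ) ^ 2 ≤ 4 := by exact_mod_cast (Nat.pow_le_pow_left hT2 2)
      refine finish (F := phi 1 ^ 2 * 4) (by norm_num [phi]) hp.one_le ?_ hk ?_
      · exact hP.trans (mul_le_mul_of_nonneg_right
          (mul_le_mul_of_nonneg_left hT2' (pow_nonneg (phi_pos 1).le _)) (commProb_pos H).le)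
      · norm_num [phi]; nlinarith
    · have hT6 : T ≤ 6 := Nat.le_of_dvd (by norm_num) hT
      have hT6' : (T : ℚ) ^ 2 ≤ 36 := by exact_mod_cast (Nat.pow_le_pow_left hT6 2)
      refine finish (F := phi 1 ^ 3 * 36) (by norm_num [phi]) hp.one_le ?_ hk ?_
      · exact hP.trans (mul_le_mul_of_nonneg_right
          (mul_le_mul_of_nonneg_left hT6' (pow_nonneg (phi_pos 1).le _)) (commProb_pos H).le)
      · norm_num [phi]; nlinarith
  obtain ⟨S⟩ := H27.Orbit.hasSect H V hs hirr hprim
  obtain ⟨f, d, hfd, hf1, hf, hd⟩ := H89.Orbit.exists_degrees S hp hV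
  have hmf := le_m_of_card S hp hf1 hf
  have hed : S.e ≤ d := hd ▸ S.e_le
  have he1 := Sect.e_pos S
  have hfe : f * S.e ≤ n := le_trans (Nat.mul_le_mul_left f hed) hfd.le
  have hqb := Sect.q_le S
  obtain he | he | he : S.e = 1 ∨ S.e = 2 ∨ S.e = 3 := by
    have : S.e ≤ f * S.e := Nat.le_mul_of_pos_left _ hf1
    omega
  all_goals rw [he] at hqb hfe
  all_goals simp only [qBound] at hqb
  · have hP := Sect.prob_of_le S (F := (n : ℚ) ^ 2) hqb (m0 := n) (by omega) (by norm_num)
    refine finish (by positivity) hp.one_le hP hk ?_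
    obtain rfl | rfl : n = 2 ∨ n = 3 := by omega
    · push_cast; nlinarith
    · push_cast; nlinarith
  · have hm1 : S.m = 1 := by have := S.m_pos; omega
    obtain rfl | rfl : n = 2 ∨ n = 3 := by omega
    · by_cases hq : Sect.q S = 24
      · obtain ⟨hd', hP⟩ := quat_case S he hm1 hq
        rw [hf, show f = 1 by omega, pow_one] at hd'
        refine window h11 ?_ ?_ hd' ?_ hk
        · exact Nat.odd_iff.1 (hp.odd_of_ne_two (by omega))
        · intro h0
          have := (Nat.prime_dvd_prime_iff_eq Nat.prime_three hp).1 (Nat.dvd_of_mod_eq_zero h0)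
          omega
        · rw [commProb_def', ← mul_div_assoc,
            le_div_iff₀ (Nat.cast_pos.2 Nat.card_pos), one_mul] at hP
          exact_mod_cast hP
      · have h12 : Sect.q S ≤ 12 := by
          have h1 := Sect.q_eq S
          rw [he] at h1
          have h2 := Sect.relIndex_dvd S
          have h := H89.Orbit.card_dvd_GL_e (G := ↥S.actRange) S.cr_actRange S.card_N Nat.prime_two
            (a := 1) (by rw [he]; rfl)
          simp [Fin.prod_univ_succ] at h
          have h3 := h2.trans h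
          have h4 := Nat.le_of_dvd (by norm_num) h3
          interval_cases h5 : S.B.relIndex S.σ.ker <;> omega
        have hP := Sect.prob_of_le S (F := 72 / 17) h12 hm1.le (by norm_num)
        exact finish (by norm_num) hp.one_le hP hk (by nlinarith)
    · have hP := Sect.prob_of_le S (F := 9) hqb hm1.le (by norm_num)
      exact finish (by norm_num) hp.one_le hP hk (by nlinarith)
  · have hm1 : S.m = 1 := by have := S.m_pos; omega
    obtain rfl : n = 3 := by omega
    have h13 : (13 : ℚ) ≤ p := by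
      have h := S.root 3 Nat.prime_three (by rw [he])
      rw [hf, show f = 1 by omega, pow_one] at h
      exact_mod_cast (show 13 ≤ p by omega)
    have hP := Sect.prob_of_le S (F := 73) hqb hm1.le (by norm_num)
    exact finish (by norm_num) hp.one_le hP hk (by nlinarith)

end H27.Classes
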