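import Cfsg.Agent.H27.Classes.Arith
import Cfsg.Agent.H27.Classes.Prob
import Cfsg.Agent.H27.Orbit.Count
import Cfsg.Agent.H89.Orbit.Bounds
import Cfsg.Agent.H17.SmallOrders

/-!
Commuting probabilities of primitive solvable linear groups.
-/

set_option autoImplicit false
set_option linter.style.haveILetI false
set_option linter.unusedSectionVars false

namespace H27.Classes

open MulAction
open H27.Orbit (SectData)
open H35.OddBase (IsCR)

namespace Sect

variable {H V : Type} [Group H] [Finite H] [AddCommGroup V] [Finite V] [DistribMulAction H V]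
  (S : SectData H V)

theorem e_pos : 1 ≤ S.e := by
  refine Nat.one_le_iff_ne_zero.2 fun h => ?_
  have h1 := S.card_N
  rw [h] at h1
  exact Nat.card_pos.ne' (h1.trans (by norm_num))

theorem inf_le : (toPermHom H S.N).ker ⊓ S.σ.ker ≤ S.B := fun g hg =>
  S.ker_le g hg.2 fun n => DFunLike.congr_fun (MonoidHom.mem_ker.1 hg.1) n

theorem relIndex_dvd : S.B.relIndex S.σ.ker ∣ Nat.card S.actRange := by
  refine (Subgroup.relIndex_dvd_of_le_left S.σ.ker (inf_le S)).trans ?_
  rw [Subgroup.inf_relIndex_right, Subgroup.relIndex_ker]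
  exact Subgroup.card_dvd_of_le (Subgroup.map_le_range (toPermHom H S.N) S.σ.ker)

theorem relIndex_le_three (he : S.e = 3) : S.B.relIndex S.σ.ker ≤ 24 := by
  haveI : Fact (Nat.Prime 3) := ⟨Nat.prime_three⟩
  have hN : Nat.card S.N = 9 := by rw [S.card_N, he]; norm_num
  have hexp := H89.Orbit.exponent_nine S.cr hN
  let π : H →* ↥S.actRange := (toPermHom H S.N).rangeRestrict
  have hker : π.ker ⊓ S.σ.ker ≤ S.B := by
    rw [show π.ker = (toPermHom H S.N).ker from MonoidHom.ker_rangeRestrict _]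
    exact inf_le S
  let Y : Subgroup ↥S.actRange := S.σ.ker.map π
  have hY48 : Nat.card ↥Y ∣ 48 := by
    have h := H35.OddBase.card_dvd_GL (X := ↥Y) (p := 3) (k := 2) hexp (by rw [hN]; norm_num)
    simpa [Fin.prod_univ_succ] using h
  have hXY : (π.ker ⊓ S.σ.ker).relIndex S.σ.ker = Nat.card ↥Y := by
    rw [Subgroup.inf_relIndex_right, Subgroup.relIndex_ker]
  have hXB : (π.ker ⊓ S.σ.ker).relIndex S.σ.ker =
      (π.ker ⊓ S.σ.ker).relIndex S.B * S.B.relIndex S.σ.ker :=
    (Subgroup.relIndex_mul_relIndex _ _ _ hker S.B_le).symm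
  rw [hXY] at hXB
  by_cases htriv : ∀ b ∈ S.B, π b = 1
  · have hsub : derivedSeries ↥Y 3 = ⊥ := by
      rw [Subgroup.eq_bot_iff_forall]
      intro y hy
      have hmap := map_derivedSeries_eq (f := π.subgroupMap S.σ.ker)
        (π.subgroupMap_surjective S.σ.ker) 3
      rw [← hmap] at hy
      obtain ⟨x, hx, rfl⟩ := hy
      exact Subtype.ext (htriv _ (S.three he ⟨x, hx, rfl⟩))
    refine le_trans ?_ (H17.SmallOrders.card_le_24 hexp hN hsub)
    rw [hXB]
    exact Nat.le_mul_of_pos_left _ (Nat.pos_of_ne_zero Subgroup.index_ne_zero_of_finite)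
  · have h2 : 2 ≤ (π.ker ⊓ S.σ.ker).relIndex S.B := by
      by_contra hlt
      refine htriv fun b hb => ?_
      have h1 : (π.ker ⊓ S.σ.ker).relIndex S.B = 1 := by
        have : (π.ker ⊓ S.σ.ker).relIndex S.B ≠ 0 := Subgroup.index_ne_zero_of_finite
        omega
      exact MonoidHom.mem_ker.1 (Subgroup.relIndex_eq_one.1 h1 hb).1
    have h48 := Nat.le_of_dvd (by norm_num) hY48
    rw [hXB] at h48
    have := Nat.mul_le_mul_right (S.B.relIndex S.σ.ker) h2
    omega

/-- The index of the scalars in the kernel of the field action. -/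
noncomputable def q : ℕ := S.A.relIndex S.σ.ker

theorem q_eq : q S = S.e ^ 2 * S.B.relIndex S.σ.ker := by
  rw [q, ← Subgroup.relIndex_mul_relIndex _ _ _ S.A_le S.B_le, S.relIndex]

theorem q_pos : 1 ≤ q S := Nat.pos_of_ne_zero Subgroup.index_ne_zero_of_finite

variable [Group.IsSolvable H]

theorem q_le : q S ≤ qBound S.e := by
  haveI := S.isSolvable_actRange
  have he1 := e_pos S
  have hd := relIndex_dvd S
  have hle := Nat.le_of_dvd Nat.card_pos hd
  rw [q_eq]
  by_cases h9 : 9 ≤ S.e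
  · have hb : qBound S.e = S.e ^ 8 := by
      obtain ⟨j, hj⟩ : ∃ j, S.e = j + 9 := ⟨S.e - 9, by omega⟩
      rw [hj]; rfl
    have h := H89.Orbit.card_le_cube (G := ↥S.actRange) inferInstance S.cr_actRange S.card_N
    rw [hb]
    calc S.e ^ 2 * S.B.relIndex S.σ.ker ≤ S.e ^ 2 * (S.e ^ 2) ^ 3 :=
          Nat.mul_le_mul_left _ (hle.trans h)
      _ = _ := by ring
  obtain he | he | he | he | he | he | he | he :
      S.e = 1 ∨ S.e = 2 ∨ S.e = 3 ∨ S.e = 4 ∨ S.e = 5 ∨ S.e = 6 ∨ S.e = 7 ∨ S.e = 8 := by omega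
  all_goals rw [he]; simp only [qBound]
  · have h1 : S.σ.ker ≤ S.B := fun g hg => S.ker_le g hg fun x => by
      have h := S.card_N
      rw [he, one_pow, Nat.card_eq_one_iff_unique] at h
      exact h.1.elim _ _
    rw [Subgroup.relIndex_eq_one.2 h1]
    norm_num
  · have h := H89.Orbit.card_dvd_GL_e (G := ↥S.actRange) S.cr_actRange S.card_N Nat.prime_two
      (a := 1) (by rw [he]; rfl)
    simp [Fin.prod_univ_succ] at h
    have := Nat.le_of_dvd (by norm_num) h
    omega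
  · have := relIndex_le_three S he
    omega
  · have := H17.SmallOrders.card_le_72 (G := ↥S.actRange) inferInstance S.cr_actRange
      (by rw [S.card_N, he]; norm_num)
    omega
  · have h := H89.Orbit.card_dvd_GL_e (G := ↥S.actRange) S.cr_actRange S.card_N
      (show Nat.Prime 5 by norm_num) (a := 1) (by rw [he]; rfl)
    simp [Fin.prod_univ_succ] at h
    have := Nat.le_of_dvd (by norm_num) h
    omega
  · have := H89.Orbit.card_le_six (G := ↥S.actRange) S.cr_actRange S.card_N he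
    omega
  · have h := H89.Orbit.card_dvd_GL_e (G := ↥S.actRange) S.cr_actRange S.card_N
      (show Nat.Prime 7 by norm_num) (a := 1) (by rw [he]; rfl)
    simp [Fin.prod_univ_succ] at h
    have := Nat.le_of_dvd (by norm_num) h
    omega
  · have := H17.SmallOrders.card_le_160000 (G := ↥S.actRange) inferInstance S.cr_actRange
      (by rw [S.card_N, he]; norm_num)
    omega

variable [FaithfulSMul H V]

theorem subgroupOf_le_center : S.A.subgroupOf S.σ.ker ≤ Subgroup.center ↥S.σ.ker := by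
  intro a ha
  rw [Subgroup.mem_center_iff]
  intro x
  obtain ⟨c, -, hc⟩ := S.scal a ha
  refine Subtype.ext (eq_of_smul_eq_smul fun v : V => ?_)
  simp only [Subgroup.coe_mul, mul_smul]
  rw [hc, hc, S.semi, MonoidHom.mem_ker.1 x.2]
  rfl

theorem prob : 3 * (q S : ℚ) - 2 ≤ (q S : ℚ) ^ 2 * (S.m : ℚ) ^ 2 * commProb H := by
  have h1 := central_bound (S.A.subgroupOf S.σ.ker) (subgroupOf_le_center S)
  have h2 := S.σ.ker.commProb_subgroup_le
  rw [show S.σ.ker.index = S.m from Subgroup.index_ker S.σ] at h2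
  refine h1.trans ?_
  show (q S : ℚ) ^ 2 * commProb ↥S.σ.ker ≤ _
  rw [mul_assoc]
  exact mul_le_mul_of_nonneg_left (h2.trans_eq (mul_comm _ _)) (sq_nonneg _)

/-- The bound in terms of bounds on the index and on the field action. -/
theorem prob_of_le {q0 m0 : ℕ} {F : ℚ} (hq : q S ≤ q0) (hm : S.m ≤ m0)
    (h : (q0 : ℚ) ^ 2 * (m0 : ℚ) ^ 2 ≤ F * (3 * q0 - 2)) : 1 ≤ F * commProb H := by
  have hP := prob S
  have hq1 : (1 : ℚ) ≤ q S := Nat.one_le_cast.2 (q_pos S)
  have hq0 : (1 : ℚ) ≤ q0 := Nat.one_le_cast.2 ((q_pos S).trans hq)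
  have hP0 : 0 ≤ commProb H := (commProb_pos H).le
  have hm' : (S.m : ℚ) ^ 2 ≤ (m0 : ℚ) ^ 2 := by exact_mod_cast Nat.pow_le_pow_left hm 2
  have h1 : (q S : ℚ) ^ 2 * (m0 : ℚ) ^ 2 ≤ F * (3 * q S - 2) := by
    refine le_of_mul_le_mul_right ?_ (show (0 : ℚ) < 3 * q0 - 2 by linarith)
    calc (q S : ℚ) ^ 2 * (m0 : ℚ) ^ 2 * (3 * q0 - 2)
        = (q S : ℚ) ^ 2 * (3 * q0 - 2) * (m0 : ℚ) ^ 2 := by ring
      _ ≤ (q0 : ℚ) ^ 2 * (3 * q S - 2) * (m0 : ℚ) ^ 2 :=
          mul_le_mul_of_nonneg_right (quot_mono (q_pos S) hq) (sq_nonneg _)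
      _ = (q0 : ℚ) ^ 2 * (m0 : ℚ) ^ 2 * (3 * q S - 2) := by ring
      _ ≤ F * (3 * q0 - 2) * (3 * q S - 2) := mul_le_mul_of_nonneg_right h (by linarith)
      _ = _ := by ring
  refine le_of_mul_le_mul_left ?_ (show (0 : ℚ) < 3 * q S - 2 by linarith)
  rw [mul_one]
  calc (3 : ℚ) * q S - 2 ≤ (q S : ℚ) ^ 2 * (S.m : ℚ) ^ 2 * commProb H := hP
    _ ≤ (q S : ℚ) ^ 2 * (m0 : ℚ) ^ 2 * commProb H :=
        mul_le_mul_of_nonneg_right (mul_le_mul_of_nonneg_left hm' (sq_nonneg _)) hP0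
    _ ≤ F * (3 * q S - 2) * commProb H := mul_le_mul_of_nonneg_right h1 hP0
    _ = _ := by ring

theorem prob_phi {f n : ℕ} (hm : S.m ≤ f) (hn : f * S.e ≤ n) : 1 ≤ phi n * commProb H :=
  prim_step (q_pos S) (q_le S) (e_pos S) S.m_pos hm hn (qBound_phi (e_pos S)) (prob S)

end Sect

end H27.Classes
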